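import Cfsg.Agent.Lib.helper3.G24TC.J.Base
import Cfsg.Agent.Lib.helper3.StemPres

/-! the structure of the base words (generated, helper3) -/

set_option autoImplicit false
set_option maxRecDepth 100000

namespace Cfsg.Agent.Lib.Helper3.G24TC.J

open Cfsg.Agent.Lib.Helper12.TC Cfsg.Agent.Lib.Helper12.TCG Cfsg.Agent.Lib.Helper3.StemPres

/-- the letters with the two words whose commutator they are -/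
def sData : List (ℕ × List ℕ × List ℕ) :=
  [(0, [4, 0, 2, 5], [4, 0, 2, 5, 0, 4, 3, 1, 5]),
   (2, [5, 0, 2, 4], [5, 0, 2, 4, 2, 5, 3, 1, 4]),
   (4, [0, 2, 4, 0, 5, 0, 2], [4]),
   (6, [0, 2], [0, 2, 6, 3, 1])]

/-- relators of the base group -/
def rels : List (List ℕ) :=
  [[0, 0],
   [5, 5, 5],
   [0, 2, 0, 2, 1, 3],
   [2, 5, 2, 5, 2, 5, 2, 4, 3, 4, 3, 4],
   [0, 2, 0, 5, 0, 4, 0, 2, 4, 1, 5, 1, 4, 1, 5],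
   [0, 2, 0, 5, 2, 4, 0, 5, 1, 3, 5, 3, 4, 1, 5],
   [2, 2],
   [0, 2, 0, 3, 1, 3],
   [0, 4, 2, 5, 0, 4, 3, 5],
   [0, 4, 2, 5, 1, 4, 2, 5],
   [0, 4, 2, 5, 1, 4, 3, 5],
   [0, 4, 2, 5, 1, 4, 3, 4, 4],
   [0, 5, 5, 3, 5, 1, 5, 5, 2, 5],
   [6, 6],
   [2, 6, 2, 6],
   [2, 6, 3, 6],
   [0, 6, 0, 6, 0, 6, 0, 6],
   [0, 2, 0, 6, 0, 2, 6, 1, 6],
   [0, 2, 0, 6, 0, 6, 3, 1, 6],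
   [0, 2, 0, 6, 1, 6, 2, 0, 6],
   [0, 2, 0, 6, 1, 3, 6, 0, 6],
   [0, 2, 0, 7, 1, 3, 7, 1, 7],
   [0, 2, 0, 7, 1, 7, 3, 1, 7],
   [0, 2, 6, 0, 2, 6, 0, 2, 6],
   [0, 2, 6, 0, 2, 6, 1, 3, 6],
   [0, 2, 7, 1, 3, 7, 1, 3, 7],
   [0, 6, 2, 0, 6, 2, 0, 6, 2],
   [0, 4, 6, 5, 1, 4, 6, 2, 5],
   [0, 4, 6, 5, 1, 4, 3, 6, 5],
   [0, 2, 5, 6, 0, 2, 5, 6, 0, 2, 5, 6],
   [0, 2, 5, 6, 0, 2, 5, 6, 1, 3, 5, 6],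
   [0, 2, 5, 7, 1, 3, 5, 7, 1, 3, 5, 7],
   [0, 6, 4, 2, 0, 6, 4, 2, 0, 6, 4, 2],
   [2, 5, 6, 4, 2, 5, 6, 4, 2, 5, 6, 4],
   [2, 5, 6, 4, 2, 5, 6, 4, 3, 5, 6, 4],
   [2, 4, 6, 5, 2, 4, 6, 5, 2, 4, 6, 5],
   [2, 4, 6, 5, 2, 4, 6, 5, 3, 4, 6, 5],
   [0, 6, 5, 3, 5, 1, 5, 6, 0, 5, 2, 6, 4],
   [0, 6, 5, 3, 5, 1, 5, 6, 0, 5, 6, 2, 4],
   [0, 5, 2, 6, 4, 1, 6, 4, 0, 4, 2, 4, 6],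
   [0, 5, 2, 7, 4, 1, 7, 5, 3, 5, 1, 5, 7],
   [0, 2, 0, 6, 1, 5, 1, 4, 6, 5, 0, 4, 0, 6],
   [0, 2, 0, 5, 6, 0, 2, 5, 6, 1, 3, 5, 3, 6],
   [0, 2, 0, 5, 7, 1, 3, 5, 7, 1, 3, 5, 3, 7],
   [0, 2, 6, 0, 2, 6, 1, 5, 1, 4, 6, 5, 0, 4],
   [0, 2, 6, 0, 6, 3, 1, 5, 1, 4, 6, 5, 0, 4],
   [0, 2, 7, 1, 3, 7, 1, 5, 1, 4, 7, 5, 0, 4],
   [0, 2, 4, 2, 5, 6, 0, 6, 4, 3, 5, 3, 1, 6],
   [0, 6, 5, 3, 4, 1, 5, 6, 4, 0, 5, 2, 4, 6],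
   [0, 5, 2, 4, 6, 4, 0, 5, 6, 5, 3, 4, 1, 6],
   [2, 5, 2, 4, 6, 5, 2, 4, 6, 5, 3, 4, 3, 6],
   [2, 5, 6, 4, 2, 5, 6, 4, 3, 5, 3, 6, 2, 4],
   [0, 2, 0, 4, 6, 0, 2, 4, 6, 3, 5, 3, 1, 6, 5]]

/-- the positive letters -/
def posL : List ℕ := [0, 2, 4, 6]

theorem baseL_eq : baseL = baseOf cIV 8 sData rels posL := by decide +kernel

theorem hSl : ∀ p ∈ sData, p.1 < 8 ∧ (∀ t ∈ p.2.1, t < 8) ∧ (∀ t ∈ p.2.2, t < 8) := by decide +kernel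

theorem hRl : ∀ r ∈ rels, ∀ t ∈ r, t < 8 := by decide +kernel

theorem hPl : ∀ x ∈ posL, x < 8 := by decide

theorem hpos : ∀ s < 8, s ∈ posL ∨ invS cIV s ∈ posL := by decide

theorem hne : ∀ s < 8, invS cIV s ≠ s := by decide

theorem hpairs : ∀ s < 8, [s, invS cIV s] ∈ baseL := by decide +kernel

end Cfsg.Agent.Lib.Helper3.G24TC.J
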